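import Mathlib
import Groth.Prelude.Def_EGA43

/-!
Openness and universal openness of a map at a point.
-/

set_option autoImplicit false
universe u v w
open CategoryTheory CategoryTheory.Limits AlgebraicGeometry Topology Filter

namespace Groth.Agent.OpenAt

section Top

variable {α : Type u} {β : Type v} {γ : Type w} [TopologicalSpace α] [TopologicalSpace β]
  [TopologicalSpace γ]

theorem isOpenAt_comp {f : α → β} {g : β → γ} {x : α} (hf : EGA43.IsOpenAt f x)
    (hg : EGA43.IsOpenAt g (f x)) : EGA43.IsOpenAt (g ∘ f) x := fun U hU => by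
  rw [Set.image_comp]
  exact hg _ (hf U hU)

theorem isOpenAt_left_of_comp {f : α → β} {g : β → γ} {x : α} (hf : ContinuousAt f x)
    (h : EGA43.IsOpenAt (g ∘ f) x) : EGA43.IsOpenAt g (f x) := fun U hU =>
  Filter.mem_of_superset (h (f ⁻¹' U) (hf hU)) (by rintro _ ⟨a, ha, rfl⟩; exact ⟨f a, ha, rfl⟩)

theorem isOpenAt_comp_homeo (e : α ≃ₜ β) {g : β → γ} {x : α} (hg : EGA43.IsOpenAt g (e x)) :
    EGA43.IsOpenAt (g ∘ e) x :=
  isOpenAt_comp (fun U hU => by simpa using (e.map_nhds_eq x) ▸ Filter.image_mem_map hU) hg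

end Top

/-- Openness at a point in any cartesian square over `f`. -/
theorem isOpenAt_of_isPullback {X Y Y' P : Scheme.{u}} {f : X ⟶ Y} {x : X}
    (h : EGA43.IsUnivOpenAt f x) {fst : P ⟶ X} {snd : P ⟶ Y'} {g : Y' ⟶ Y}
    (sq : IsPullback fst snd f g) (p : P) (hp : fst.base p = x) :
    EGA43.IsOpenAt snd.base p := by
  have h1 := h Y' g (sq.isoPullback.hom.base p) (by
    rw [← hp, ← Scheme.Hom.comp_apply, sq.isoPullback_hom_fst])
  have h2 := isOpenAt_comp_homeo (Scheme.homeoOfIso sq.isoPullback) h1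
  have h3 : ⇑(pullback.snd f g).base ∘ ⇑(Scheme.homeoOfIso sq.isoPullback) = ⇑snd.base := by
    funext q
    show (pullback.snd f g).base (sq.isoPullback.hom.base q) = _
    rw [← Scheme.Hom.comp_apply, sq.isoPullback_hom_snd]
  rwa [h3] at h2

/-- Universal openness at a point is stable under base change. -/
theorem isUnivOpenAt_of_isPullback {X Y Y' P : Scheme.{u}} {f : X ⟶ Y} {x : X}
    (h : EGA43.IsUnivOpenAt f x) {fst : P ⟶ X} {snd : P ⟶ Y'} {g : Y' ⟶ Y}
    (sq : IsPullback fst snd f g) (p : P) (hp : fst.base p = x) :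
    EGA43.IsUnivOpenAt snd p := by
  intro Y'' g' p' hp'
  exact isOpenAt_of_isPullback h ((IsPullback.of_hasPullback snd g').paste_horiz sq) p'
    (by rw [Scheme.Hom.comp_apply, hp', hp])

theorem isUnivOpenAt_comp {X Y Z : Scheme.{u}} {f : X ⟶ Y} {g : Y ⟶ Z} {x : X}
    (hf : EGA43.IsUnivOpenAt f x) (hg : EGA43.IsUnivOpenAt g (f.base x)) :
    EGA43.IsUnivOpenAt (f ≫ g) x := by
  intro Z' k x' hx'
  let m : pullback (f ≫ g) k ⟶ pullback g k :=
    pullback.lift (pullback.fst _ _ ≫ f) (pullback.snd _ _) (by rw [Category.assoc, pullback.condition])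
  have hsnd : m ≫ pullback.snd g k = pullback.snd (f ≫ g) k := pullback.lift_snd _ _ _
  have hfst : m ≫ pullback.fst g k = pullback.fst (f ≫ g) k ≫ f := pullback.lift_fst _ _ _
  have sq : IsPullback (pullback.fst (f ≫ g) k) m f (pullback.fst g k) :=
    IsPullback.of_bot (by rw [hsnd]; exact IsPullback.of_hasPullback (f ≫ g) k) hfst.symm
      (IsPullback.of_hasPullback g k)
  have h1 := isOpenAt_of_isPullback hf sq x' hx'
  have h2 := hg Z' k (m.base x') (by
    rw [← Scheme.Hom.comp_apply, hfst, Scheme.Hom.comp_apply, hx'])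
  have := isOpenAt_comp h1 h2
  rw [← hsnd]
  simpa using this

theorem isUnivOpenAt_right_of_comp {X Y Z : Scheme.{u}} {f : X ⟶ Y} {g : Y ⟶ Z} {x : X}
    (h : EGA43.IsUnivOpenAt (f ≫ g) x) : EGA43.IsUnivOpenAt g (f.base x) := by
  intro Z' k y' hy'
  let m : pullback (f ≫ g) k ⟶ pullback g k :=
    pullback.lift (pullback.fst _ _ ≫ f) (pullback.snd _ _) (by rw [Category.assoc, pullback.condition])
  have hsnd : m ≫ pullback.snd g k = pullback.snd (f ≫ g) k := pullback.lift_snd _ _ _
  have hfst : m ≫ pullback.fst g k = pullback.fst (f ≫ g) k ≫ f := pullback.lift_fst _ _ _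
  have sq : IsPullback (pullback.fst (f ≫ g) k) m f (pullback.fst g k) :=
    IsPullback.of_bot (by rw [hsnd]; exact IsPullback.of_hasPullback (f ≫ g) k) hfst.symm
      (IsPullback.of_hasPullback g k)
  obtain ⟨z, hz1, hz2⟩ := Scheme.Pullback.exists_preimage_pullback (f := f) (g := pullback.fst g k)
    x y' hy'.symm
  set p := sq.isoPullback.inv.base z
  have hp1 : (pullback.fst (f ≫ g) k).base p = x := by
    rw [← Scheme.Hom.comp_apply, sq.isoPullback_inv_fst, hz1]
  have hp2 : m.base p = y' := by rw [← Scheme.Hom.comp_apply, sq.isoPullback_inv_snd, hz2]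
  have h1 : EGA43.IsOpenAt (⇑(pullback.snd g k).base ∘ ⇑m.base) p := by
    have := h Z' k p hp1
    rw [← hsnd] at this
    simpa using this
  exact hp2 ▸ isOpenAt_left_of_comp m.continuous.continuousAt h1

/-- Openness at a point descends along a finite jointly surjective family of closed maps. -/
theorem isOpenAt_of_baseChange_family {X Y : Scheme.{u}} (f : X ⟶ Y) (x : X) {ι : Type*} [Finite ι]
    (T : ι → Scheme.{u}) (v : ∀ i, T i ⟶ Y) (hv : ∀ i, IsClosedMap (v i).base)
    (hcov : ⋃ i, Set.range (v i).base = Set.univ)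
    (h : ∀ i, ∀ x₁ : ↥(pullback f (v i)), (pullback.fst f (v i)).base x₁ = x →
      EGA43.IsOpenAt (pullback.snd f (v i)).base x₁) :
    EGA43.IsOpenAt f.base x := by
  intro U hU
  let W : ∀ i, Set (T i) := fun i =>
    interior ((pullback.snd f (v i)).base '' ((pullback.fst f (v i)).base ⁻¹' U))
  have hW : ∀ i, ∀ t : T i, (v i).base t = f.base x → t ∈ W i := by
    intro i t ht
    obtain ⟨z, hz1, hz2⟩ := Scheme.Pullback.exists_preimage_pullback (f := f) (g := v i) x t ht.symm
    rw [← hz2]
    exact mem_interior_iff_mem_nhds.mpr (h i z hz1 _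
      ((pullback.fst f (v i)).continuous.continuousAt (by rw [hz1]; exact hU)))
  have hmem : (⋂ i, ((v i).base '' (W i)ᶜ)ᶜ) ∈ nhds (f.base x) := by
    refine IsOpen.mem_nhds (isOpen_iInter_of_finite fun i =>
      (hv i _ isOpen_interior.isClosed_compl).isOpen_compl) ?_
    rw [Set.mem_iInter]
    rintro i ⟨t, ht, heq⟩
    exact ht (hW i t heq)
  refine Filter.mem_of_superset hmem fun y hy => ?_
  have hy' : y ∈ ⋃ i, Set.range (v i).base := by rw [hcov]; trivial
  obtain ⟨i, t, rfl⟩ := by simpa using hy'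
  have ht : t ∈ W i := by
    by_contra hn
    exact Set.mem_iInter.mp hy i ⟨t, hn, rfl⟩
  obtain ⟨z, hz, rfl⟩ := interior_subset ht
  exact ⟨(pullback.fst f (v i)).base z, hz, by
    rw [← Scheme.Hom.comp_apply, ← Scheme.Hom.comp_apply, pullback.condition]⟩

/-- Universal openness descends along a finite jointly surjective family of universally closed
maps. -/
theorem isUnivOpenAt_of_baseChange_family {X Y : Scheme.{u}} (f : X ⟶ Y) (x : X) {ι : Type*}
    [Finite ι] (T : ι → Scheme.{u}) (v : ∀ i, T i ⟶ Y) [∀ i, UniversallyClosed (v i)]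
    (hcov : ⋃ i, Set.range (v i).base = Set.univ)
    (h : ∀ i, ∀ x₁ : ↥(pullback f (v i)), (pullback.fst f (v i)).base x₁ = x →
      EGA43.IsUnivOpenAt (pullback.snd f (v i)) x₁) :
    EGA43.IsUnivOpenAt f x := by
  intro Y' g x' hx'
  refine isOpenAt_of_baseChange_family (pullback.snd f g) x' (fun i => pullback g (v i))
    (fun i => pullback.fst g (v i)) (fun i => (pullback.fst g (v i)).isClosedMap) ?_ ?_
  · refine Set.eq_univ_of_forall fun y' => ?_
    have hy : g.base y' ∈ ⋃ i, Set.range (v i).base := by rw [hcov]; trivial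
    obtain ⟨i, t, ht⟩ := Set.mem_iUnion.mp hy
    obtain ⟨z, hz, -⟩ := Scheme.Pullback.exists_preimage_pullback (f := g) (g := v i) y' t ht.symm
    exact Set.mem_iUnion.mpr ⟨i, z, hz⟩
  · intro i x₁ hx₁
    let P := pullback (pullback.snd f g) (pullback.fst g (v i))
    let e : P ⟶ pullback f (v i) :=
      pullback.lift (pullback.fst _ _ ≫ pullback.fst f g) (pullback.snd _ _ ≫ pullback.snd g (v i))
        (by rw [Category.assoc, pullback.condition, pullback.condition_assoc, Category.assoc,
          pullback.condition])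
    have he1 : e ≫ pullback.fst f (v i) = pullback.fst _ _ ≫ pullback.fst f g :=
      pullback.lift_fst _ _ _
    have he2 : e ≫ pullback.snd f (v i) = pullback.snd _ _ ≫ pullback.snd g (v i) :=
      pullback.lift_snd _ _ _
    have sq : IsPullback e (pullback.snd (pullback.snd f g) (pullback.fst g (v i)))
        (pullback.snd f (v i)) (pullback.snd g (v i)) := by
      refine IsPullback.of_right ?_ he2 (IsPullback.of_hasPullback f (v i))
      have := (IsPullback.of_hasPullback (pullback.snd f g) (pullback.fst g (v i))).paste_horiz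
        (IsPullback.of_hasPullback f g)
      rw [he1, ← pullback.condition (f := g) (g := v i)]
      exact this
    exact isOpenAt_of_isPullback (h i (e.base x₁) (by
      rw [← Scheme.Hom.comp_apply, he1, Scheme.Hom.comp_apply, hx₁, hx'])) sq x₁ rfl

end Groth.Agent.OpenAt
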